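import Cfsg.Agent.H421.Uni.Frame

/-!
# Theorem (U): the unipotent groups (helper421, for helper45)

* `Pu φ g` : `g` is unitriangular for the level function `φ`; `Pr φ g` : `g` is triangular;
* `mem_of_unitri` : an isometry which is unitriangular (for `lev`) lies in every subgroup containing the `yr i s`
  (`2 ≠ 0`);
* `exists_dec` : `g = g' * yr i (-c)`, `g'` unitriangular for `levi i`;
* `stPgrp`, `stNeg`.
-/

set_option autoImplicit false
set_option linter.unusedSimpArgs false

namespace Cfsg.Agent.H421.Uni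

open QuadraticMap Cfsg.Agent.LieClassical Cfsg.Agent.LieClassical.OrthCore Cfsg.Agent.LieClassical.OmegaReindex
  Cfsg.Agent.LieClassical.OrthForms Cfsg.Agent.H45.Uni

variable {m : ℕ} {k : Type*} [Field k]

/-! ### triangular maps -/

section tri

variable {ι : Type} (φ : ι → ℤ)

/-- `v` lives in levels at least `h` -/
def Ge (h : ℤ) (v : ι → k) : Prop := ∀ a, φ a < h → v a = 0

/-- unitriangular -/
def Pu (g : (ι → k) ≃ₗ[k] (ι → k)) : Prop := ∀ h v, Ge φ h v → Ge φ (h + 1) (g v - v)

/-- triangular -/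
def Pt (g : (ι → k) ≃ₗ[k] (ι → k)) : Prop := ∀ h v, Ge φ h v → Ge φ h (g v)

variable {φ}

theorem Ge.add {h : ℤ} {v w : ι → k} (hv : Ge φ h v) (hw : Ge φ h w) : Ge φ h (v + w) := fun a ha => by
  rw [Pi.add_apply, hv a ha, hw a ha, add_zero]

theorem Ge.sub {h : ℤ} {v w : ι → k} (hv : Ge φ h v) (hw : Ge φ h w) : Ge φ h (v - w) := fun a ha => by
  rw [Pi.sub_apply, hv a ha, hw a ha, sub_zero]

theorem Ge.smul {h : ℤ} {v : ι → k} (c : k) (hv : Ge φ h v) : Ge φ h (c • v) := fun a ha => by
  rw [Pi.smul_apply, hv a ha, smul_zero]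

theorem Ge.mono {h h' : ℤ} {v : ι → k} (hh : h' ≤ h) (hv : Ge φ h v) : Ge φ h' v := fun a ha =>
  hv a (lt_of_lt_of_le ha hh)

theorem Ge.zero {h : ℤ} : Ge φ h (0 : ι → k) := fun _ _ => rfl

theorem Pu.pt {g : (ι → k) ≃ₗ[k] (ι → k)} (hg : Pu φ g) : Pt φ g := by
  intro h v hv
  have h1 := (hg h v hv).mono (h' := h) (by omega)
  have h2 : g v = (g v - v) + v := by abel
  rw [h2]
  exact h1.add hv

theorem Pu.one : Pu φ (1 : (ι → k) ≃ₗ[k] (ι → k)) := by
  intro h v _
  change Ge φ (h + 1) (v - v)
  rw [sub_self]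
  exact Ge.zero

theorem Pu.mul {g g' : (ι → k) ≃ₗ[k] (ι → k)} (hg : Pu φ g) (hg' : Pu φ g') : Pu φ (g * g') := by
  intro h v hv
  have h1 : (g * g') v - v = (g (g' v) - g' v) + (g' v - v) := by
    change g (g' v) - v = _
    abel
  rw [h1]
  exact (hg h _ (hg'.pt h v hv)).add (hg' h v hv)

theorem Pt.mul {g g' : (ι → k) ≃ₗ[k] (ι → k)} (hg : Pt φ g) (hg' : Pt φ g') : Pt φ (g * g') := fun h v hv =>
  hg h _ (hg' h v hv)

theorem Pu.conj {g x : (ι → k) ≃ₗ[k] (ι → k)} (hg : Pu φ g) (hx : Pt φ x) (hx' : Pt φ x⁻¹) : Pu φ (x * g * x⁻¹) := by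
  intro h v hv
  have h1 : (x * g * x⁻¹) v - v = x (g (x⁻¹ v) - x⁻¹ v) := by
    change x (g (x⁻¹ v)) - v = _
    rw [map_sub]
    congr 1
    exact (LinearEquiv.apply_symm_apply x v).symm
  rw [h1]
  exact hx _ _ (hg h _ (hx' h v hv))

/-- unitriangular maps, as a subgroup -/
def UU (φ : ι → ℤ) : Subgroup ((ι → k) ≃ₗ[k] (ι → k)) where
  carrier := {g | Pu φ g ∧ Pu φ g⁻¹}
  mul_mem' {a b} ha hb := ⟨ha.1.mul hb.1, by rw [mul_inv_rev]; exact hb.2.mul ha.2⟩
  one_mem' := ⟨Pu.one, by rw [inv_one]; exact Pu.one⟩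
  inv_mem' {a} ha := ⟨ha.2, by rw [inv_inv]; exact ha.1⟩

end tri

/-- the level function: `f i` has level `m - i`, `z` level `0`, `e i` level `-(m - i)` -/
def lev (m : ℕ) : Ix m → ℤ
  | .inl _ => 0
  | .inr (.inl i) => (i : ℤ) - m
  | .inr (.inr i) => m - (i : ℤ)

/-- the level function of the `i`th minimal parabolic -/
def levi (i : Fin m) : Ix m → ℤ
  | .inl _ => 0
  | .inr (.inl j) => if j = i then (i : ℤ) + 1 - m else (j : ℤ) - m
  | .inr (.inr j) => if j = i then m - ((i : ℤ) + 1) else m - (j : ℤ)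

theorem levi_lt {i : Fin m} {a b : Ix m} (h : levi i a < levi i b) : lev m a < lev m b := by
  have hi := i.2
  rcases a with a | a | a <;> rcases b with b | b | b <;> simp only [levi, lev, Fin.ext_iff] at h ⊢ <;>
    (try split_ifs at h) <;> omega

/-! ### the simple root elements -/

/-- criterion -/
theorem pu_of_single {φ : Ix m → ℤ} {g : (Ix m → k) ≃ₗ[k] (Ix m → k)}
    (h : ∀ b, Ge φ (φ b + 1) (g (Pi.single b 1) - Pi.single b 1)) : Pu φ g := by
  intro h0 v hv
  have h1 : g v - v = ∑ b, v b • (g (Pi.single b 1) - Pi.single b 1) := by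
    have h2 : v = ∑ b, v b • (Pi.single b (1 : k) : Ix m → k) := by
      funext j
      simp [Finset.sum_apply, Pi.single_apply]
    conv_lhs => rw [h2]
    rw [map_sum, ← Finset.sum_sub_distrib]
    apply Finset.sum_congr rfl
    intro b _
    rw [map_smul, smul_sub]
  rw [h1]
  intro a ha
  rw [Finset.sum_apply]
  apply Finset.sum_eq_zero
  intro b _
  rw [Pi.smul_apply]
  by_cases hb : v b = 0
  · rw [hb, zero_smul]
  · have h3 : h0 ≤ φ b := by
      by_contra hc
      exact hb (hv b (by omega))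
    rw [h b a (by omega), smul_zero]

theorem ge_ve {φ : Ix m → ℤ} {h : ℤ} {i : Fin m} (hi : h ≤ φ (.inr (.inl i))) : Ge φ h (ve i : Ix m → k) := by
  intro a ha
  rw [ve, Pi.single_apply, if_neg]
  rintro rfl
  omega

theorem ge_vf {φ : Ix m → ℤ} {h : ℤ} {i : Fin m} (hi : h ≤ φ (.inr (.inr i))) : Ge φ h (vf i : Ix m → k) := by
  intro a ha
  rw [vf, Pi.single_apply, if_neg]
  rintro rfl
  omega

theorem ge_vz {φ : Ix m → ℤ} {h : ℤ} (hi : h ≤ φ (.inl ())) : Ge φ h (vz : Ix m → k) := by
  intro a ha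
  rw [vz, Pi.single_apply, if_neg]
  rintro rfl
  omega

/-- a vector with all coordinates `0` in levels `< h`, times a coordinate which is `0` -/
theorem Ge.coord {φ : Ix m → ℤ} {h : ℤ} {v w : Ix m → k} (hv : Ge φ h v) (c : k) (b : Ix m)
    (hw : h ≤ φ b → Ge φ h w) : Ge φ h ((c * v b) • w) := by
  by_cases hb : v b = 0
  · rw [hb, mul_zero, zero_smul]
    exact Ge.zero
  · refine Ge.smul _ (hw ?_)
    by_contra hc
    exact hb (hv b (by omega))

/-- as `Ge.coord`, one level up -/
theorem Ge.coord_succ {φ : Ix m → ℤ} {h : ℤ} {v w : Ix m → k} (hv : Ge φ h v) (c : k) (b : Ix m)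
    (hw : h ≤ φ b → Ge φ (h + 1) w) : Ge φ (h + 1) ((c * v b) • w) := by
  by_cases hb : v b = 0
  · rw [hb, mul_zero, zero_smul]
    exact Ge.zero
  · refine Ge.smul _ (hw ?_)
    by_contra hc
    exact hb (hv b (by omega))

theorem yr_pu (i : Fin m) (s : k) : Pu (lev m) (yr i s : (Ix m → k) ≃ₗ[k] (Ix m → k)) := by
  intro h v hv
  by_cases hi : i.1 + 1 < m
  · rw [yr_long hi]
    have e : v - (s * v (.inr (.inl i))) • ve ⟨i.1 + 1, hi⟩ + (s * v (.inr (.inr ⟨i.1 + 1, hi⟩))) • vf i - v =
        (s * v (.inr (.inr ⟨i.1 + 1, hi⟩))) • vf i - (s * v (.inr (.inl i))) • ve ⟨i.1 + 1, hi⟩ := by abel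
    rw [e]
    refine (hv.coord_succ s _ fun hb => ge_vf ?_).sub (hv.coord_succ s _ fun hb => ge_ve ?_)
    · simp only [lev] at hb ⊢; push_cast at hb; omega
    · simp only [lev] at hb ⊢; push_cast; omega
  · rw [yr_short hi]
    have e : v - (s * v (.inr (.inl i))) • vz + (2 * s * v (.inl ()) - s ^ 2 * v (.inr (.inl i))) • vf i - v =
        ((2 * s) * v (.inl ())) • vf i - (s * v (.inr (.inl i))) • vz - (s ^ 2 * v (.inr (.inl i))) • vf i := by
      module
    have him : (i : ℤ) + 1 = m := by have := i.2; omega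
    rw [e]
    refine ((hv.coord_succ (2 * s) _ fun hb => ge_vf ?_).sub (hv.coord_succ s _ fun hb => ge_vz ?_)).sub
      (hv.coord_succ (s ^ 2) _ fun hb => ge_vf ?_)
    · simp only [lev] at hb ⊢; omega
    · simp only [lev] at hb ⊢; omega
    · simp only [lev] at hb ⊢; omega

theorem xr_pt (i : Fin m) (s : k) : Pt (levi i) (xr i s : (Ix m → k) ≃ₗ[k] (Ix m → k)) := by
  intro h v hv
  by_cases hi : i.1 + 1 < m
  · have hne : (⟨i.1 + 1, hi⟩ : Fin m) ≠ i := by
      intro h
      have := congrArg Fin.val h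
      simp at this
    rw [xr_long hi]
    refine (hv.add (hv.coord s _ fun hb => ge_vf ?_)).sub (hv.coord s _ fun hb => ge_ve ?_)
    · simp only [levi, if_true, if_neg hne] at hb ⊢; push_cast; omega
    · simp only [levi, if_true, if_neg hne] at hb ⊢; push_cast at hb; omega
  · rw [xr_short hi]
    have him : (i : ℤ) + 1 = m := by have := i.2; omega
    have e : (2 * s * v (.inl ()) + s ^ 2 * v (.inr (.inr i))) • (ve i : Ix m → k) =
        ((2 * s) * v (.inl ())) • ve i + (s ^ 2 * v (.inr (.inr i))) • ve i := by module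
    rw [e]
    refine (hv.add (hv.coord s _ fun hb => ge_vz ?_)).sub ((hv.coord (2 * s) _ fun hb => ge_ve ?_).add
      (hv.coord (s ^ 2) _ fun hb => ge_ve ?_))
    · simp only [levi, if_true] at hb ⊢; omega
    · simp only [levi, if_true] at hb ⊢; omega
    · simp only [levi, if_true] at hb ⊢; omega

theorem yr_pt (i : Fin m) (s : k) : Pt (levi i) (yr i s : (Ix m → k) ≃ₗ[k] (Ix m → k)) := by
  intro h v hv
  by_cases hi : i.1 + 1 < m
  · have hne : (⟨i.1 + 1, hi⟩ : Fin m) ≠ i := by
      intro h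
      have := congrArg Fin.val h
      simp at this
    rw [yr_long hi]
    refine (hv.sub (hv.coord s _ fun hb => ge_ve ?_)).add (hv.coord s _ fun hb => ge_vf ?_)
    · simp only [levi, if_true, if_neg hne] at hb ⊢; push_cast; omega
    · simp only [levi, if_true, if_neg hne] at hb ⊢; push_cast at hb; omega
  · rw [yr_short hi]
    have him : (i : ℤ) + 1 = m := by have := i.2; omega
    have e : (2 * s * v (.inl ()) - s ^ 2 * v (.inr (.inl i))) • (vf i : Ix m → k) =
        ((2 * s) * v (.inl ())) • vf i - (s ^ 2 * v (.inr (.inl i))) • vf i := by module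
    rw [e]
    refine (hv.sub (hv.coord s _ fun hb => ge_vz ?_)).add ((hv.coord (2 * s) _ fun hb => ge_vf ?_).sub
      (hv.coord (s ^ 2) _ fun hb => ge_vf ?_))
    · simp only [levi, if_true] at hb ⊢; omega
    · simp only [levi, if_true] at hb ⊢; omega
    · simp only [levi, if_true] at hb ⊢; omega

/-! ### elimination -/

/-- no `e j`, `f j`, `j ≤ l` -/
def Mid (l : ℕ) (w : Ix m → k) : Prop := ∀ j : Fin m, j.1 ≤ l → w (.inr (.inl j)) = 0 ∧ w (.inr (.inr j)) = 0

theorem Mid.neg {l : ℕ} {w : Ix m → k} (hw : Mid l w) : Mid l (-w) := fun j hj => by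
  rw [Pi.neg_apply, Pi.neg_apply, (hw j hj).1, (hw j hj).2, neg_zero]
  exact ⟨rfl, rfl⟩

theorem polar_vf_mid {l : Fin m} {w : Ix m → k} (hw : Mid l.1 w) : polar (quadOdd m k) (vf l) w = 0 := by
  rw [polar_vf]
  exact (hw l le_rfl).1

/-- `K` contains `siegel (vf l) w` -/
def Sg (K : Subgroup ((Ix m → k) ≃ₗ[k] (Ix m → k))) (l : Fin m) (w : Ix m → k) : Prop :=
  ∃ h : polar (quadOdd m k) (vf l) w = 0, siegel (quadOdd m k) (vf l) w (Q_vf l) h ∈ K

theorem Sg.add {K : Subgroup ((Ix m → k) ≃ₗ[k] (Ix m → k))} {l : Fin m} {w w' : Ix m → k} (h : Sg K l w)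
    (h' : Sg K l w') : Sg K l (w + w') := by
  obtain ⟨h1, h2⟩ := h
  obtain ⟨h3, h4⟩ := h'
  have h5 : polar (quadOdd m k) (vf l) (w + w') = 0 := by rw [polar_add_right, h1, h3, add_zero]
  refine ⟨h5, ?_⟩
  rw [← siegel_mul (Q_vf l) h1 h3 h5]
  exact K.mul_mem h2 h4

theorem Sg.congr {K : Subgroup ((Ix m → k) ≃ₗ[k] (Ix m → k))} {l : Fin m} {w w' : Ix m → k} (h : Sg K l w)
    (e : w = w') : Sg K l w' := e ▸ h

variable {K : Subgroup ((Ix m → k) ≃ₗ[k] (Ix m → k))}
  (hK : ∀ (i : Fin m) (s : k), (yr i s : (Ix m → k) ≃ₗ[k] (Ix m → k)) ∈ K)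

include hK

theorem sg_nb (l : Fin m) (s : k) : Sg K l (s • nb' l) := by
  have h1 := vf_perp l (-(-s))
  have h2 := hK l (-s)
  change siegel (quadOdd m k) (vf l) (-(-s) • nb' l) (Q_vf l) h1 ∈ K at h2
  refine Sg.congr ⟨h1, h2⟩ ?_
  rw [neg_neg]

theorem sg_mid (h2 : (2 : k) ≠ 0) (l : Fin m) (w : Ix m → k) (hw : Mid l.1 w) : Sg K l w := by
  obtain ⟨d, hd⟩ : ∃ d, l.1 + 1 + d = m := ⟨m - (l.1 + 1), by omega⟩
  induction d generalizing l w with
  | zero =>
    have hl : ¬ l.1 + 1 < m := by omega
    have e : (nb' l : Ix m → k) = vz := dif_neg hl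
    refine (sg_nb hK l (w (.inl ()))).congr ?_
    rw [e]
    funext j
    rcases j with j | j | j
    · obtain rfl : j = () := rfl
      rw [Pi.smul_apply, vz_l, smul_eq_mul, mul_one]
    · rw [Pi.smul_apply, vz_r, smul_zero, (hw j (by have := j.2; omega)).1]
    · rw [Pi.smul_apply, vz_r, smul_zero, (hw j (by have := j.2; omega)).2]
  | succ d ih =>
    have hl : l.1 + 1 < m := by omega
    set l' : Fin m := ⟨l.1 + 1, hl⟩ with hl'
    have e : (nb' l : Ix m → k) = ve l' := dif_pos hl
    have ih' := fun w hw => ih l' w hw (by simp only [hl']; omega)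
    -- the conjugates
    have key : ∀ (w' : Ix m → k), Mid l'.1 w' → ∀ t : k,
        Sg K l (t • ve l' + t • w' - (t * quadOdd m k w') • vf l') := by
      intro w' hw' t
      obtain ⟨h3, h4⟩ := ih' w' hw'
      obtain ⟨h5, h6⟩ : Sg K l (t • ve l') := (sg_nb hK l t).congr (by rw [e])
      have hO := siegel_mem_O (Q := quadOdd m k) (Q_vf l') h3
      have hne : l ≠ l' := by
        intro h
        have := congrArg Fin.val h
        simp [hl'] at this
      have e1 : siegel (quadOdd m k) (vf l') w' (Q_vf l') h3 (vf l) = vf l := by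
        have hp : polar (quadOdd m k) w' (vf l) = 0 := by
          rw [polar_comm, polar_vf]
          exact (hw' l (by simp only [hl']; omega)).1
        rw [siegel_apply, polar_vf, vf_e, hp]
        simp
      have e2 : siegel (quadOdd m k) (vf l') w' (Q_vf l') h3 (t • ve l') =
          t • ve l' + t • w' - (t * quadOdd m k w') • vf l' := by
        have hp : polar (quadOdd m k) w' (t • ve l') = 0 := by
          rw [polar_comm, polar_smul_left, polar_ve, (hw' l' le_rfl).2, smul_zero]
        rw [siegel_apply, polar_vf, Pi.smul_apply, ve_e, if_pos rfl, hp, smul_eq_mul, mul_one]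
        module
      have h7 : polar (quadOdd m k) (siegel (quadOdd m k) (vf l') w' (Q_vf l') h3 (vf l))
          (siegel (quadOdd m k) (vf l') w' (Q_vf l') h3 (t • ve l')) = 0 := by
        rw [polar_map hO, h5]
      have h8 : quadOdd m k (siegel (quadOdd m k) (vf l') w' (Q_vf l') h3 (vf l)) = 0 := by
        rw [mem_O.1 hO, Q_vf]
      have h9 := siegel_conj hO (Q_vf l) h5 h8 h7
      have h10 : polar (quadOdd m k) (vf l) (t • ve l' + t • w' - (t * quadOdd m k w') • vf l') = 0 := by
        rw [← e1, ← e2]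
        nth_rw 1 [e1]
        rw [← e1]
        exact h7
      refine ⟨h10, ?_⟩
      rw [siegel_congr (Q_vf l) h10 h8 h7 e1.symm e2.symm, ← h9]
      exact K.mul_mem (K.mul_mem h4 h6) (K.inv_mem h4)
    have hve : ∀ t : k, Sg K l (t • ve l') := fun t => (sg_nb hK l t).congr (by rw [e])
    have hz : Mid l'.1 (vz : Ix m → k) := fun j _ => ⟨vz_r _, vz_r _⟩
    have hvf : ∀ t : k, Sg K l (t • vf l') := by
      intro t
      have h3 := key vz hz (-(t / 2))
      have h4 := key (-vz) hz.neg (-(t / 2))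
      have h5 := hve (t / 2)
      have h6 := ((h3.add h4).add h5).add h5
      refine h6.congr ?_
      rw [QuadraticMap.map_neg, Q_vz]
      have h7 : t = t / 2 + t / 2 := by
        field_simp
        ring
      nth_rw 9 [h7]
      module
    have hmid : ∀ w', Mid l'.1 w' → Sg K l w' := by
      intro w' hw'
      have h3 := key w' hw' 1
      have h4 := hve (-1)
      have h5 := hvf (quadOdd m k w')
      refine ((h3.add h4).add h5).congr ?_
      module
    -- decomposition of `w`
    have hdec : w = w (.inr (.inl l')) • ve l' + w (.inr (.inr l')) • vf l' +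
        (w - w (.inr (.inl l')) • ve l' - w (.inr (.inr l')) • vf l') := by abel
    refine Sg.congr (((hve _).add (hvf _)).add (hmid _ ?_)) hdec.symm
    intro j hj
    rw [Pi.sub_apply, Pi.sub_apply, Pi.sub_apply, Pi.sub_apply, Pi.smul_apply, Pi.smul_apply, Pi.smul_apply,
      Pi.smul_apply, ve_e, ve_f, vf_e, vf_f]
    by_cases hjl : j = l'
    · subst hjl
      simp
    · have h3 : j.1 ≤ l.1 := by
        have h4 : j.1 ≠ l.1 + 1 := fun h => hjl (Fin.ext h)
        simp only [hl'] at hj
        omega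
      rw [(hw j h3).1, (hw j h3).2, if_neg hjl]
      simp

omit hK in
theorem siegel_pu {l : Fin m} {w : Ix m → k} (hw : Mid l.1 w) (h : polar (quadOdd m k) (vf l) w = 0) :
    Pu (lev m) (siegel (quadOdd m k) (vf l) w (Q_vf l) h) := by
  intro h0 v hv
  rw [siegel_apply]
  have e : v + polar (quadOdd m k) (vf l) v • w - polar (quadOdd m k) w v • vf l -
      (quadOdd m k w * polar (quadOdd m k) (vf l) v) • vf l - v =
      (1 * v (.inr (.inl l))) • w - polar (quadOdd m k) w v • vf l -
        (quadOdd m k w * v (.inr (.inl l))) • vf l := by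
    rw [polar_vf]
    module
  rw [e]
  refine ((hv.coord_succ 1 _ fun hb => ?_).sub ?_).sub (hv.coord_succ _ _ fun hb => ge_vf ?_)
  · intro a ha
    simp only [lev] at hb
    rcases a with a | a | a
    · simp only [lev] at ha; omega
    · simp only [lev] at ha
      exact (hw a (by omega)).1
    · simp only [lev] at ha
      have := a.2
      omega
  · by_cases hh : h0 + 1 ≤ m - (l : ℤ)
    · exact Ge.smul _ (ge_vf (by simp only [lev]; omega))
    · have h1 : polar (quadOdd m k) w v = 0 := by
        have hl := l.2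
        rw [polar_quadOdd, hv (.inl ()) (by simp only [lev]; omega), mul_zero, zero_add]
        apply Finset.sum_eq_zero
        intro j _
        by_cases hj : j.1 ≤ l.1
        · rw [(hw j hj).1, (hw j hj).2]
          ring
        · rw [hv (.inr (.inl j)) (by simp only [lev]; omega), hv (.inr (.inr j)) (by simp only [lev]; omega)]
          ring
      rw [h1, zero_smul]
      exact Ge.zero
  · simp only [lev] at hb ⊢
    have := l.2
    omega

omit hK in
theorem eq_of_single {g g' : (Ix m → k) ≃ₗ[k] (Ix m → k)} (hz : g vz = g' vz) (he : ∀ j, g (ve j) = g' (ve j))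
    (hf : ∀ j, g (vf j) = g' (vf j)) : g = g' := by
  apply LinearEquiv.ext
  intro v
  have h2 : v = ∑ b, v b • (Pi.single b (1 : k) : Ix m → k) := by
    funext j
    simp [Finset.sum_apply, Pi.single_apply]
  rw [h2, map_sum, map_sum]
  apply Finset.sum_congr rfl
  intro b _
  rw [map_smul, map_smul]
  congr 1
  rcases b with b | b | b
  · obtain rfl : b = () := rfl
    exact hz
  · exact he b
  · exact hf b

theorem mem_aux (h2 : (2 : k) ≠ 0) (d : ℕ) : ∀ (g : (Ix m → k) ≃ₗ[k] (Ix m → k)) (l : ℕ), l + d = m →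
    g ∈ O (quadOdd m k) → Pu (lev m) g → (∀ j : Fin m, j.1 < l → g (ve j) = ve j ∧ g (vf j) = vf j) → g ∈ K := by
  induction d with
  | zero =>
    intro g l hl hO hP hfix
    have hg : g = 1 := by
      apply eq_of_single
      · have h3 := hP 0 vz (ge_vz le_rfl)
        funext a
        rw [← sub_eq_zero]
        change (g vz - vz : Ix m → k) a = 0
        rcases a with a | a | a
        · exact h3 _ (by simp only [lev]; omega)
        · exact h3 _ (by simp only [lev]; have := a.2; omega)
        · have h4 := polar_map hO (ve a) vz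
          rw [(hfix a (by have := a.2; omega)).1, polar_ve, polar_ve] at h4
          rw [Pi.sub_apply, h4, sub_self]
      · exact fun j => (hfix j (by have := j.2; omega)).1
      · exact fun j => (hfix j (by have := j.2; omega)).2
    rw [hg]
    exact K.one_mem
  | succ d ih =>
    intro g l hl hO hP hfix
    have hlm : l < m := by omega
    set L : Fin m := ⟨l, hlm⟩ with hL
    have hne : ∀ j : Fin m, j.1 < l → j ≠ L := fun j hj h => by
      rw [h] at hj
      simp [hL] at hj
    -- `g` fixes `vf L`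
    have h1 : g (vf L) = vf L := by
      have h3 := hP (m - l) (vf L) (ge_vf (by simp only [lev, hL]; omega))
      funext a
      rw [← sub_eq_zero]
      change (g (vf L) - vf L : Ix m → k) a = 0
      rcases a with a | a | a
      · exact h3 _ (by simp only [lev]; omega)
      · exact h3 _ (by simp only [lev]; have := a.2; omega)
      · by_cases ha : a.1 < l
        · have h4 := polar_map hO (ve a) (vf L)
          rw [(hfix a ha).1, polar_ve, polar_ve] at h4
          rw [Pi.sub_apply, h4, sub_self]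
        · exact h3 _ (by simp only [lev]; omega)
    set r := g (ve L) - ve L with hr
    have h3 : Ge (lev m) (l - m + 1) r := hP (l - m) (ve L) (ge_ve (by simp only [lev, hL]; omega))
    set w := r - r (.inr (.inr L)) • vf L with hw
    have hwm : Mid l w := by
      intro j hj
      have h4 : r (.inr (.inl j)) = 0 := h3 _ (by simp only [lev]; omega)
      refine ⟨by rw [hw, Pi.sub_apply, Pi.smul_apply, vf_e, h4, smul_zero, sub_zero], ?_⟩
      rw [hw, Pi.sub_apply, Pi.smul_apply, vf_f]
      by_cases hjL : j = L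
      · rw [if_pos hjL, hjL, smul_eq_mul, mul_one, sub_self]
      · have hjl : j.1 < l := by
          have : j.1 ≠ l := fun h => hjL (Fin.ext h)
          omega
        have h5 := polar_map hO (ve j) (ve L)
        rw [(hfix j hjl).1, polar_ve, polar_ve] at h5
        rw [if_neg hjL, smul_zero, sub_zero, hr, Pi.sub_apply, h5, sub_self]
    have hge : g (ve L) = ve L + w + r (.inr (.inr L)) • vf L := by
      rw [hw, hr]
      abel
    have hpe : polar (quadOdd m k) (ve L) w = 0 := by
      rw [polar_ve]; exact (hwm L le_rfl).2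
    have hpf : polar (quadOdd m k) (vf L) w = 0 := by
      rw [polar_vf]; exact (hwm L le_rfl).1
    have hc : r (.inr (.inr L)) = - quadOdd m k w := by
      have h5 := mem_O.1 hO (ve L)
      rw [hge, Q_ve, Q_add, Q_add, Q_ve, QuadraticMap.map_smul, Q_vf, hpe, polar_add_left, polar_smul_right,
        polar_smul_right, polar_comm _ w, hpf, polar_ve, vf_f, if_pos rfl] at h5
      simp only [smul_eq_mul, mul_one, mul_zero, add_zero, zero_add] at h5
      linear_combination h5
    set σ := siegel (quadOdd m k) (vf L) w (Q_vf L) hpf with hσ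
    have hσO : σ ∈ O (quadOdd m k) := siegel_mem_O _ _
    have hσe : σ (ve L) = g (ve L) := by
      rw [hσ, siegel_apply, polar_vf, ve_e, if_pos rfl, polar_comm _ w, hpe, hge, hc]
      module
    have hσf : σ (vf L) = vf L := by
      rw [hσ, siegel_apply, polar_vf, vf_e, polar_comm _ w, hpf]
      module
    have hσej : ∀ j : Fin m, j.1 < l → σ (ve j) = ve j := by
      intro j hj
      have h5 : polar (quadOdd m k) w (ve j) = 0 := by
        rw [polar_comm, polar_ve]; exact (hwm j hj.le).2
      rw [hσ, siegel_apply, polar_vf, ve_e, if_neg (Ne.symm (hne j hj)), h5]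
      module
    have hσfj : ∀ j : Fin m, j.1 < l → σ (vf j) = vf j := by
      intro j hj
      have h5 : polar (quadOdd m k) w (vf j) = 0 := by
        rw [polar_comm, polar_vf]; exact (hwm j hj.le).1
      rw [hσ, siegel_apply, polar_vf, vf_e, h5]
      module
    have hinv : ∀ v v' : Ix m → k, σ v = v' → σ⁻¹ v' = v := by
      intro v v' hv
      rw [← hv]
      exact LinearEquiv.symm_apply_apply σ v
    have hσi : Pu (lev m) σ⁻¹ := by
      have h5 : polar (quadOdd m k) (vf L) (-w) = 0 := by rw [polar_neg_right, hpf, neg_zero]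
      have h6 : σ⁻¹ = siegel (quadOdd m k) (vf L) (-w) (Q_vf L) h5 := by
        rw [inv_eq_iff_mul_eq_one]
        have h7 : polar (quadOdd m k) (vf L) (w + -w) = 0 := by rw [polar_add_right, hpf, h5, add_zero]
        rw [hσ, siegel_mul (Q_vf L) hpf h5 h7]
        apply LinearEquiv.ext
        intro v
        rw [siegel_apply, add_neg_cancel]
        simp [polar_zero_left]
      rw [h6]
      exact siegel_pu (l := L) hwm.neg h5
    have hfin : σ⁻¹ * g ∈ K := by
      refine ih (σ⁻¹ * g) (l + 1) (by omega) ((O _).mul_mem ((O _).inv_mem hσO) hO) (hσi.mul hP) ?_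
      intro j hj
      by_cases hjl : j.1 < l
      · rw [mul_apply', mul_apply', (hfix j hjl).1, (hfix j hjl).2]
        exact ⟨hinv _ _ (hσej j hjl), hinv _ _ (hσfj j hjl)⟩
      · obtain rfl : j = L := Fin.ext (by simp only [hL]; omega)
        rw [mul_apply', mul_apply', h1]
        exact ⟨hinv _ _ hσe, hinv _ _ hσf⟩
    obtain ⟨h5, h6⟩ := sg_mid hK h2 L w hwm
    have h7 : g = σ * (σ⁻¹ * g) := by group
    rw [h7]
    exact K.mul_mem h6 hfin

/-- an isometry which is unitriangular lies in the group generated by the `yr i s` -/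
theorem mem_of_unitri (h2 : (2 : k) ≠ 0) {g : (Ix m → k) ≃ₗ[k] (Ix m → k)} (hO : g ∈ O (quadOdd m k))
    (hP : Pu (lev m) g) : g ∈ K :=
  mem_aux hK h2 m g 0 (by omega) hO hP fun j hj => absurd hj (by omega)

omit hK

/-! ### decomposition -/

theorem ge_single {φ : Ix m → ℤ} {h : ℤ} {b : Ix m} (hb : h ≤ φ b) : Ge φ h (Pi.single b (1 : k) : Ix m → k) := by
  intro a ha
  rw [Pi.single_apply, if_neg]
  rintro rfl
  omega

/-- coordinates of `g (single b)` -/
theorem Pu.coord {φ : Ix m → ℤ} {g : (Ix m → k) ≃ₗ[k] (Ix m → k)} (hg : Pu φ g) {a b : Ix m} (h : φ a ≤ φ b) :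
    g (Pi.single b 1) a = if a = b then 1 else 0 := by
  have h1 := hg (φ b) _ (ge_single (k := k) (b := b) le_rfl) a (by omega)
  rw [Pi.sub_apply, sub_eq_zero] at h1
  rw [h1, Pi.single_apply]

theorem exists_dec {g : (Ix m → k) ≃ₗ[k] (Ix m → k)} (hO : g ∈ O (quadOdd m k)) (hP : Pu (lev m) g) (i : Fin m) :
    ∃ c : k, Pu (levi i) (g * (yr i c : (Ix m → k) ≃ₗ[k] (Ix m → k))) := by
  have hyO : ∀ c : k, (yr i c : (Ix m → k) ≃ₗ[k] (Ix m → k)) ∈ O (quadOdd m k) := fun c => E_le_O (yr i c).2
  by_cases hi : i.1 + 1 < m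
  · set i' : Fin m := ⟨i.1 + 1, hi⟩ with hi'
    have hne : i' ≠ i := by
      intro h
      have := congrArg Fin.val h
      simp [hi'] at this
    refine ⟨g (ve i) (.inr (.inl i')), ?_⟩
    set c := g (ve i) (.inr (.inl i')) with hc
    set g' := g * (yr i c : (Ix m → k) ≃ₗ[k] (Ix m → k)) with hg'
    have hO' : g' ∈ O (quadOdd m k) := (O _).mul_mem hO (hyO c)
    have hP' : Pu (lev m) g' := hP.mul (yr_pu i c)
    have h0 : g' (ve i) (.inr (.inl i')) = 0 := by
      have h1 : g' (ve i) = g (ve i) - c • g (ve i') := by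
        rw [hg', mul_apply', yr_long hi, ve_e, if_pos rfl, ve_f, ← hi', mul_one, mul_zero, zero_smul, add_zero,
          map_sub, map_smul]
      have h2 : g (ve i') (.inr (.inl i')) = 1 := by
        have := hP.coord (a := .inr (.inl i')) (b := .inr (.inl i')) le_rfl
        rwa [if_pos rfl] at this
      rw [h1, Pi.sub_apply, Pi.smul_apply, h2, smul_eq_mul, mul_one, ← hc, sub_self]
    have h1 : g' (vf i') (.inr (.inr i)) = 0 := by
      have h2 := polar_map hO' (vf i') (ve i)
      have hx : ∀ a, lev m a ≤ lev m (.inr (.inr i')) → g' (vf i') a = if a = .inr (.inr i') then 1 else 0 :=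
        fun a ha => hP'.coord (a := a) (b := .inr (.inr i')) ha
      have hy : ∀ a, lev m a ≤ lev m (.inr (.inl i)) → g' (ve i) a = if a = .inr (.inl i) then 1 else 0 :=
        fun a ha => hP'.coord (a := a) (b := .inr (.inl i)) ha
      have him := i.2
      rw [polar_vf, ve_e, if_neg hne, polar_quadOdd, hx (.inl ()) (by simp only [lev, hi']; push_cast; omega),
        if_neg (by simp), mul_zero, zero_mul, zero_add] at h2
      rw [← h2]
      have h3 : ∀ j : Fin m, (g' (vf i') (.inr (.inl j)) * g' (ve i) (.inr (.inr j)) +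
          g' (ve i) (.inr (.inl j)) * g' (vf i') (.inr (.inr j))) =
          if j = i then g' (vf i') (.inr (.inr i)) else 0 := by
        intro j
        have hj := j.2
        rw [hx (.inr (.inl j)) (by simp only [lev, hi']; push_cast; omega), if_neg (by simp), zero_mul, zero_add]
        by_cases e1 : j = i
        · rw [if_pos e1, e1, hy (.inr (.inl i)) le_rfl, if_pos rfl, one_mul]
        · rw [if_neg e1]
          by_cases e2 : j = i'
          · rw [e2, h0, zero_mul]
          · by_cases e3 : j.1 < i.1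
            · rw [hy (.inr (.inl j)) (by simp only [lev]; omega), if_neg (by simp [e1]), zero_mul]
            · rw [hx (.inr (.inr j)) (by simp only [lev, hi']; push_cast; omega), if_neg (by simp [e2]), mul_zero]
      rw [Finset.sum_congr rfl fun j _ => h3 j, Finset.sum_ite_eq' Finset.univ i, if_pos (Finset.mem_univ _)]
    apply pu_of_single
    intro b a ha
    by_cases h : lev m a < lev m b + 1
    · exact hP' _ _ (ge_single le_rfl) a h
    · have h2 : (b = .inr (.inl i) ∧ a = .inr (.inl i')) ∨ (b = .inr (.inr i') ∧ a = .inr (.inr i)) := by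
        have him := i.2
        have e1 : ∀ j : Fin m, j = i' ↔ j.1 = i.1 + 1 := fun j => Fin.ext_iff
        rcases a with a | a | a <;> rcases b with b | b | b <;>
          simp only [levi, lev, Fin.ext_iff, Sum.inr.injEq, Sum.inl.injEq, e1, reduceCtorEq, false_and, and_false, false_or,
            or_false] at ha h ⊢ <;>
          (try split_ifs at ha) <;> omega
      rcases h2 with ⟨rfl, rfl⟩ | ⟨rfl, rfl⟩
      · change g' (ve i) (.inr (.inl i')) - (ve i : Ix m → k) (.inr (.inl i')) = 0
        rw [h0, ve_e, if_neg hne, sub_zero]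
      · change g' (vf i') (.inr (.inr i)) - (vf i' : Ix m → k) (.inr (.inr i)) = 0
        rw [h1, vf_f, if_neg (Ne.symm hne), sub_zero]
  · refine ⟨g (ve i) (.inl ()), ?_⟩
    have him : i.1 + 1 = m := by have := i.2; omega
    set c := g (ve i) (.inl ()) with hc
    set g' := g * (yr i c : (Ix m → k) ≃ₗ[k] (Ix m → k)) with hg'
    have hO' : g' ∈ O (quadOdd m k) := (O _).mul_mem hO (hyO c)
    have hP' : Pu (lev m) g' := hP.mul (yr_pu i c)
    have h0 : g' (ve i) (.inl ()) = 0 := by
      have h1 : g' (ve i) = g (ve i) - c • g vz - c ^ 2 • g (vf i) := by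
        rw [hg', mul_apply', yr_short hi, ve_e, if_pos rfl, ve_l, map_add, map_sub, map_smul, map_smul]
        module
      have h2 : g vz (.inl ()) = 1 := by
        have := hP.coord (a := .inl ()) (b := .inl ()) le_rfl
        rwa [if_pos rfl] at this
      have h3 : g (vf i) (.inl ()) = 0 := by
        have := hP.coord (a := .inl ()) (b := .inr (.inr i)) (by simp only [lev]; omega)
        rwa [if_neg (by simp)] at this
      rw [h1, Pi.sub_apply, Pi.sub_apply, Pi.smul_apply, Pi.smul_apply, h2, h3, smul_eq_mul, mul_one, ← hc, sub_self,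
        smul_zero, sub_zero]
    have hy : ∀ a, lev m a ≤ lev m (.inr (.inl i)) → g' (ve i) a = if a = .inr (.inl i) then 1 else 0 :=
      fun a ha => hP'.coord (a := a) (b := .inr (.inl i)) ha
    have hye : ∀ j, g' (ve i) (.inr (.inl j)) = if j = i then 1 else 0 := by
      intro j
      rw [hy (.inr (.inl j)) (by simp only [lev]; have := j.2; omega)]
      simp
    have h1 : g' vz (.inr (.inr i)) = 0 := by
      have h2 := polar_map hO' vz (ve i)
      have hx : ∀ a, lev m a ≤ lev m (.inl ()) → g' vz a = if a = .inl () then 1 else 0 :=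
        fun a ha => hP'.coord (a := a) (b := .inl ()) ha
      rw [polar_vz, ve_l, mul_zero, polar_quadOdd, h0, mul_zero, zero_add] at h2
      rw [← h2]
      have h3 : ∀ j : Fin m, (g' vz (.inr (.inl j)) * g' (ve i) (.inr (.inr j)) +
          g' (ve i) (.inr (.inl j)) * g' vz (.inr (.inr j))) = if j = i then g' vz (.inr (.inr i)) else 0 := by
        intro j
        rw [hx (.inr (.inl j)) (by simp only [lev]; have := j.2; omega), if_neg (by simp), zero_mul, zero_add, hye]
        by_cases e1 : j = i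
        · rw [if_pos e1, if_pos e1, e1, one_mul]
        · rw [if_neg e1, if_neg e1, zero_mul]
      rw [Finset.sum_congr rfl fun j _ => h3 j, Finset.sum_ite_eq' Finset.univ i, if_pos (Finset.mem_univ _)]
    have h4 : g' (ve i) (.inr (.inr i)) = 0 := by
      have h2 := mem_O.1 hO' (ve i)
      rw [Q_ve, Q_apply, h0] at h2
      have h3 : ∀ j : Fin m, g' (ve i) (.inr (.inl j)) * g' (ve i) (.inr (.inr j)) =
          if j = i then g' (ve i) (.inr (.inr i)) else 0 := by
        intro j
        rw [hye]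
        by_cases e1 : j = i
        · rw [if_pos e1, if_pos e1, e1, one_mul]
        · rw [if_neg e1, if_neg e1, zero_mul]
      rw [Finset.sum_congr rfl fun j _ => h3 j, Finset.sum_ite_eq' Finset.univ i, if_pos (Finset.mem_univ _)] at h2
      simpa using h2
    apply pu_of_single
    intro b a ha
    by_cases h : lev m a < lev m b + 1
    · exact hP' _ _ (ge_single le_rfl) a h
    · have h2 : (b = .inr (.inl i) ∧ a = .inl ()) ∨ (b = .inl () ∧ a = .inr (.inr i)) ∨
          (b = .inr (.inl i) ∧ a = .inr (.inr i)) := by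
        rcases a with a | a | a <;> rcases b with b | b | b <;>
          simp only [levi, lev, Fin.ext_iff, Sum.inr.injEq, Sum.inl.injEq, reduceCtorEq, false_and, and_false, false_or,
            or_false, and_true, true_and] at ha h ⊢ <;>
          (try split_ifs at ha) <;> omega
      rcases h2 with ⟨rfl, rfl⟩ | ⟨rfl, rfl⟩ | ⟨rfl, rfl⟩
      · change g' (ve i) (.inl ()) - (ve i : Ix m → k) (.inl ()) = 0
        rw [h0, ve_l, sub_zero]
      · change g' vz (.inr (.inr i)) - (vz : Ix m → k) (.inr (.inr i)) = 0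
        rw [h1, vz_r, sub_zero]
      · change g' (ve i) (.inr (.inr i)) - (ve i : Ix m → k) (.inr (.inr i)) = 0
        rw [h4, ve_f, sub_zero]

theorem Pu.of_levi {i : Fin m} {g : (Ix m → k) ≃ₗ[k] (Ix m → k)} (hg : Pu (levi i) g) : Pu (lev m) g := by
  apply pu_of_single
  intro b a ha
  have h : levi i a < levi i b + 1 := by
    by_contra hc
    have := levi_lt (i := i) (a := b) (b := a) (by omega)
    omega
  exact hg _ _ (ge_single le_rfl) a h

/-! ### one-parameter groups -/

theorem xr_mul (i : Fin m) (s t : k) : xr i s * xr i t = xr i (s + t) := by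
  apply Subtype.ext
  change siegel (quadOdd m k) (ve i) (s • nb i) (Q_ve i) (ve_perp i s) *
    siegel (quadOdd m k) (ve i) (t • nb i) (Q_ve i) (ve_perp i t) =
    siegel (quadOdd m k) (ve i) ((s + t) • nb i) (Q_ve i) (ve_perp i (s + t))
  rw [siegel_mul (Q_ve i) (ve_perp i s) (ve_perp i t) (by rw [← add_smul]; exact ve_perp i (s + t))]
  exact siegel_congr _ _ _ _ rfl (add_smul s t _).symm

theorem yr_mul (i : Fin m) (s t : k) : yr i s * yr i t = yr i (s + t) := by
  apply Subtype.ext
  change siegel (quadOdd m k) (vf i) ((-s) • nb' i) (Q_vf i) (vf_perp i (-s)) *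
    siegel (quadOdd m k) (vf i) ((-t) • nb' i) (Q_vf i) (vf_perp i (-t)) =
    siegel (quadOdd m k) (vf i) ((-(s + t)) • nb' i) (Q_vf i) (vf_perp i (-(s + t)))
  have e : (-(s + t)) • (nb' i : Ix m → k) = (-s) • nb' i + (-t) • nb' i := by module
  rw [siegel_mul (Q_vf i) (vf_perp i (-s)) (vf_perp i (-t)) (by rw [← e]; exact vf_perp i (-(s + t)))]
  exact siegel_congr _ _ _ _ rfl e.symm

theorem xr_zero (i : Fin m) : (xr i 0 : GG m k) = 1 := by
  have h := xr_mul i (0 : k) 0
  rw [add_zero] at h
  exact mul_eq_left.1 h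

theorem yr_zero (i : Fin m) : (yr i 0 : GG m k) = 1 := by
  have h := yr_mul i (0 : k) 0
  rw [add_zero] at h
  exact mul_eq_left.1 h

theorem xr_inv (i : Fin m) (s : k) : (xr i s)⁻¹ = xr i (-s) := by
  rw [inv_eq_iff_mul_eq_one, xr_mul, add_neg_cancel, xr_zero]

theorem yr_inv (i : Fin m) (s : k) : (yr i s)⁻¹ = yr i (-s) := by
  rw [inv_eq_iff_mul_eq_one, yr_mul, add_neg_cancel, yr_zero]

/-- `U⁻` -/
def Un (m : ℕ) (k : Type*) [Field k] : Subgroup (GG m k) := Subgroup.closure {g : GG m k | ∃ i s, g = yr i s}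

theorem yr_mem_Un (i : Fin m) (s : k) : yr i s ∈ Un m k := Subgroup.subset_closure ⟨i, s, rfl⟩

theorem Un_pu {g : GG m k} (hg : g ∈ Un m k) : Pu (lev m) (g : (Ix m → k) ≃ₗ[k] (Ix m → k)) := by
  have h : Un m k ≤ (UU (k := k) (lev m)).comap (GG m k).subtype := by
    unfold Un
    rw [Subgroup.closure_le]
    rintro _ ⟨i, s, rfl⟩
    refine ⟨yr_pu i s, ?_⟩
    have h1 : ((yr i s : GG m k) : (Ix m → k) ≃ₗ[k] (Ix m → k))⁻¹ = (yr i (-s) : GG m k) := by
      rw [← yr_inv]
      rfl
    change Pu (lev m) ((yr i s : GG m k) : (Ix m → k) ≃ₗ[k] (Ix m → k))⁻¹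
    rw [h1]
    exact yr_pu i (-s)
  exact (h hg).1

theorem mem_Un (h2 : (2 : k) ≠ 0) {g : GG m k} (hg : Pu (lev m) (g : (Ix m → k) ≃ₗ[k] (Ix m → k))) :
    g ∈ Un m k := by
  have h1 : (g : (Ix m → k) ≃ₗ[k] (Ix m → k)) ∈ (Un m k).map (GG m k).subtype :=
    mem_of_unitri (K := (Un m k).map (GG m k).subtype) (fun i s => ⟨yr i s, yr_mem_Un i s, rfl⟩) h2 (E_le_O g.2) hg
  obtain ⟨g', hg', he⟩ := h1
  have : g' = g := Subtype.ext he
  exact this ▸ hg'

/-! ### `U⁻` is a `p`-group -/

theorem stPgrp {p : ℕ} [Fact p.Prime] {F : Type*} [Field F] [CharP F p] : StPgrp p m F := by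
  rintro ⟨g, hg⟩
  have hP : Pu (lev m) (g : (Ix m → F) ≃ₗ[F] (Ix m → F)) := Un_pu hg
  set f : Module.End F (Ix m → F) := (g : (Ix m → F) ≃ₗ[F] (Ix m → F)).toLinearMap with hf
  have h1 : ∀ (j : ℕ) (v : Ix m → F), Ge (lev m) (j - m : ℤ) (((f - 1) ^ j) v) := by
    intro j
    induction j with
    | zero =>
      intro v a ha
      exfalso
      rcases a with a | a | a <;> simp only [lev] at ha <;> (try have := a.2) <;> push_cast at ha <;> omega
    | succ j ih =>
      intro v
      rw [pow_succ', Module.End.mul_apply]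
      have h3 := hP _ _ (ih v)
      have h4 : ((j : ℤ) - m + 1) = ((j + 1 : ℕ) : ℤ) - m := by push_cast; ring
      rw [h4] at h3
      exact h3
  have h2 : (f - 1) ^ (2 * m + 1) = 0 := by
    apply LinearMap.ext
    intro v
    funext a
    refine h1 (2 * m + 1) v a ?_
    rcases a with a | a | a <;> simp only [lev] <;> (try have := a.2) <;> push_cast <;> omega
  have hnt : Nontrivial (Module.End F (Ix m → F)) := inferInstance
  have hch : CharP (Module.End F (Ix m → F)) p :=
    charP_of_injective_algebraMap (FaithfulSMul.algebraMap_injective F (Module.End F (Ix m → F))) p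
  have h3 : f ^ p ^ (2 * m + 1) = 1 := by
    have h4 := sub_pow_char_pow_of_commute (p := p) (n := 2 * m + 1) (Commute.one_right f)
    rw [one_pow, pow_eq_zero_of_le (Nat.lt_pow_self (Fact.out : p.Prime).one_lt).le h2] at h4
    exact (sub_eq_zero.1 h4.symm)
  refine ⟨2 * m + 1, ?_⟩
  apply Subtype.ext
  apply Subtype.ext
  apply LinearEquiv.toLinearMap_injective
  have h5 : ∀ j : ℕ, (((g ^ j : GG m F) : (Ix m → F) ≃ₗ[F] (Ix m → F)).toLinearMap : Module.End F (Ix m → F)) = f ^ j := by
    intro j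
    induction j with
    | zero => rfl
    | succ j ih =>
      rw [pow_succ, pow_succ, ← ih]
      rfl
  exact (h5 _).trans h3

/-! ### generation under `U⁻` -/

theorem stNeg {F : Type*} [Field F] [Fintype F] (h2 : (2 : F) ≠ 0) (hm : 1 ≤ m) {k : Type*} [Field k] {W : Type*}
    [AddCommGroup W] [Module k W] : StNeg m F k W := by
  intro ρ w hx ht hn
  set N : Submodule k W := Submodule.span k {x | ∃ u ∈ Un m F, x = ρ u w} with hN
  have hmem : ∀ u ∈ Un m F, ρ u w ∈ N := fun u hu => Submodule.subset_span ⟨u, hu, rfl⟩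
  have hstab : ∀ g : GG m F, (∀ u ∈ Un m F, ρ (g * u) w ∈ N) → ∀ x ∈ N, ρ g x ∈ N := by
    intro g hg x hxN
    have h1 : N ≤ N.comap (ρ g) := by
      rw [hN, Submodule.span_le]
      rintro _ ⟨u, hu, rfl⟩
      change ρ g (ρ u w) ∈ N
      rw [← Module.End.mul_apply, ← map_mul]
      exact hg u hu
    exact h1 hxN
  -- the rank one module
  have hone : ∀ (i : Fin m) (s t : F), ρ (xr i s * yr i t) w ∈ Submodule.span k (Set.range fun t : F => ρ (yr i t) w) := by
    intro i
    have hgood : ∀ s t : F, 1 + s * t ≠ 0 → ∃ a : k, ρ (xr i s * yr i t) w = a • ρ (yr i (t / (1 + s * t))) w := by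
      intro s t hc
      obtain ⟨h, he⟩ := stRank i s t (Units.mk0 _ hc) rfl
      obtain ⟨a, ha⟩ := ht i (Units.mk0 _ hc) h
      refine ⟨a, ?_⟩
      rw [he, map_mul, map_mul, Module.End.mul_apply, Module.End.mul_apply, hx, ha, map_smul]
      rfl
    intro s t
    by_cases hc : 1 + s * t = 0
    · have ht0 : t ≠ 0 := by
        rintro rfl
        simp at hc
      -- `s = s'' + s'` with `1 / t + s' = 1`
      have hs : s = -1 + (1 - t⁻¹) := by
        have h3 : s = -t⁻¹ := by
          field_simp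
          linear_combination hc
        rw [h3]
        ring
      have hc' : 1 + (1 - t⁻¹) * t ≠ 0 := by
        have : 1 + (1 - t⁻¹) * t = t := by
          field_simp
          ring
        rw [this]
        exact ht0
      obtain ⟨a, ha⟩ := hgood (1 - t⁻¹) t hc'
      have h4 : t / (1 + (1 - t⁻¹) * t) = 1 := by
        have : 1 + (1 - t⁻¹) * t = t := by
          field_simp
          ring
        rw [this, div_self ht0]
      rw [h4] at ha
      have h5 : ρ (xr i s * yr i t) w = a • ρ (xr i (-1) * yr i 1) w := by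
        have h6 : xr i s * yr i t = xr i (-1) * (xr i (1 - t⁻¹) * yr i t) := by
          rw [← mul_assoc, xr_mul, ← hs]
        rw [h6, map_mul, Module.End.mul_apply, ha, map_smul, map_mul, Module.End.mul_apply]
      rw [h5]
      exact Submodule.smul_mem _ _ (hn i)
    · obtain ⟨a, ha⟩ := hgood s t hc
      rw [ha]
      exact Submodule.smul_mem _ _ (Submodule.subset_span ⟨_, rfl⟩)
  -- stability under `yr`
  have hyst : ∀ (i : Fin m) (s : F), ∀ x ∈ N, ρ (yr i s) x ∈ N := fun i s => hstab _ fun u hu =>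
    hmem _ ((Un m F).mul_mem (yr_mem_Un i s) hu)
  -- stability under `xr`
  have hxst : ∀ (i : Fin m) (s : F), ∀ x ∈ N, ρ (xr i s) x ∈ N := by
    intro i s
    refine hstab _ fun u hu => ?_
    obtain ⟨c, hc⟩ := exists_dec (E_le_O u.2) (Un_pu hu) i
    have h3 : Pu (levi i) ((xr i s * (u * yr i c) * (xr i s)⁻¹ : GG m F) : (Ix m → F) ≃ₗ[F] (Ix m → F)) := by
      refine Pu.conj (x := ((xr i s : GG m F) : (Ix m → F) ≃ₗ[F] (Ix m → F))) hc (xr_pt i s) ?_
      have h4 : ((xr i s : GG m F) : (Ix m → F) ≃ₗ[F] (Ix m → F))⁻¹ = (xr i (-s) : GG m F) := by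
        rw [← xr_inv]
        rfl
      rw [h4]
      exact xr_pt i (-s)
    have h4 : xr i s * (u * yr i c) * (xr i s)⁻¹ ∈ Un m F := mem_Un h2 h3.of_levi
    have h5 : xr i s * u = (xr i s * (u * yr i c) * (xr i s)⁻¹) * (xr i s * yr i (-c)) := by
      rw [← yr_inv]
      group
    rw [h5, map_mul, Module.End.mul_apply]
    have h6 : Submodule.span k (Set.range fun t : F => ρ (yr i t) w) ≤ N.comap (ρ (xr i s * (u * yr i c) * (xr i s)⁻¹)) := by
      rw [Submodule.span_le]
      rintro _ ⟨t, rfl⟩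
      change ρ _ (ρ _ w) ∈ N
      rw [← Module.End.mul_apply, ← map_mul]
      exact hmem _ ((Un m F).mul_mem h4 (yr_mem_Un i t))
    exact h6 (hone i s (-c))
  -- the end
  have hall : ∀ g : GG m F, ∀ x ∈ N, ρ g x ∈ N := by
    intro g
    have hg := stGen hm g
    induction hg using Subgroup.closure_induction'' with
    | one => intro x hxN; rw [map_one]; exact hxN
    | mem g hg =>
      obtain ⟨i, s, rfl | rfl⟩ := hg
      · exact hxst i s
      · exact hyst i s
    | inv_mem g hg =>
      obtain ⟨i, s, rfl | rfl⟩ := hg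
      · rw [xr_inv]; exact hxst i _
      · rw [yr_inv]; exact hyst i _
    | mul g g' _ _ hg hg' =>
      intro x hxN
      rw [map_mul, Module.End.mul_apply]
      exact hg _ (hg' x hxN)
  intro g
  have h1 : ρ 1 w ∈ N := hmem 1 (Un m F).one_mem
  rw [map_one] at h1
  exact hall g w h1

end Cfsg.Agent.H421.Uni
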